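import Cfsg.Agent.H746.PslThree.Core

/-!
# Irreducible solvable groups in dimension three: the nonabelian case (helper746)

* `no_E` : no nonscalar group with scalar commutators is normalised by `A` and `T`.
-/

set_option autoImplicit false

namespace Cfsg.Agent.H746.PslThree

open Module

variable {F V : Type*} [Field F] [AddCommGroup V] [Module F V]

theorem eq_one_of_cube {s : F} (h3 : s ^ 3 = 1) (h2 : s ^ 2 = 1) : s = 1 := by
  calc s = s ^ 3 := by rw [pow_succ, h2, one_mul]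
    _ = 1 := h3

theorem det_ne (e : V ≃ₗ[F] V) : LinearMap.det (e : V →ₗ[F] V) ≠ 0 := (LinearEquiv.isUnit_det' e).ne_zero

theorem pow_finrank {e e' : V →ₗ[F] V} (he : LinearMap.det e ≠ 0) (he' : LinearMap.det e' ≠ 0) {s : F}
    (h : ∀ u, e (e' u) = s • e' (e u)) : s ^ finrank F V = 1 := by
  have h1 : e ∘ₗ e' = s • (e' ∘ₗ e) := LinearMap.ext h
  have h2 := congrArg LinearMap.det h1
  rw [LinearMap.det_smul, LinearMap.det_comp, LinearMap.det_comp, mul_comm (LinearMap.det e')] at h2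
  exact (mul_eq_right₀ (mul_ne_zero he he')).1 h2.symm

section

variable {A T : V ≃ₗ[F] V} {c : F} {v : V} {φ : V →ₗ[F] F} {E : Subgroup (V ≃ₗ[F] V)} (D : Data A T c v φ)

include D

theorem cube_one {e e' : V ≃ₗ[F] V} {s : F} (h : ∀ u, e (e' u) = s • e' (e u)) : s ^ 3 = 1 := by
  rw [← D.dim]
  exact pow_finrank (det_ne e) (det_ne e') h

theorem inv_sub_eq {e e' : V ≃ₗ[F] V} {s : F} (h : ∀ u, e (e' u) = s • e' (e u)) (hs : s ≠ 1) {W : Submodule F V}
    (hW : W ≠ ⊥) (he : ∀ x ∈ W, e x ∈ W) (he' : ∀ x ∈ W, e' x ∈ W) : W = ⊤ := by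
  have hfd := D.fd
  have h3 := cube_one D h
  have hdet : ∀ (g : V ≃ₗ[F] V) (hg : ∀ x ∈ W, (g : V →ₗ[F] V) x ∈ W), LinearMap.det ((g : V →ₗ[F] V).restrict hg) ≠ 0 := by
    intro g hg
    have hinj : Function.Injective ((g : V →ₗ[F] V).restrict hg) := by
      intro x y hxy
      exact Subtype.ext (g.injective (congrArg Subtype.val hxy))
    have h1 := det_ne (LinearEquiv.ofInjectiveEndo _ hinj)
    exact h1
  have h4 := pow_finrank (hdet e he) (hdet e' he') (s := s) (fun u => Subtype.ext (h u))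
  have h5 := Submodule.finrank_le W
  rw [D.dim] at h5
  have hpos : finrank F W ≠ 0 := fun h => hW (Submodule.finrank_eq_zero.1 h)
  apply Submodule.eq_top_of_finrank_eq
  rw [D.dim]
  by_contra hne
  have hcases : finrank F W = 1 ∨ finrank F W = 2 := by omega
  rcases hcases with h6 | h6
  · rw [h6, pow_one] at h4
    exact hs h4
  · rw [h6] at h4
    exact hs (eq_one_of_cube h3 h4)

variable (G : Grp A T E) (hna : ¬ ∀ e ∈ E, ∀ e' ∈ E, ∀ u, e (e' u) = e' (e u))

include G hna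

omit D in
theorem noncomm : ∃ g ∈ E, ∃ h ∈ E, ∃ s : F, s ≠ 1 ∧ ∀ u, g (h u) = s • h (g u) := by
  push Not at hna
  obtain ⟨g, hg, h, hh, u, hu⟩ := hna
  obtain ⟨s, hs⟩ := G.comm g hg h hh
  refine ⟨g, hg, h, hh, s, ?_, hs⟩
  rintro rfl
  exact hu (by rw [hs, one_smul])

/-- an element of `E` commuting with `T` is scalar -/
theorem scalar_T {x : V ≃ₗ[F] V} (hx : x ∈ E) (hT : ∀ u, x (T u) = T (x u)) : ∃ s : F, ∀ u, x u = s • u := by
  have hfd := D.fd
  have h3 : x v = φ (x (A v)) • v := D.eig_v (h := (x : V →ₗ[F] V)) hT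
  set lam := φ (x (A v)) with hlam
  have hxv : x v ≠ 0 := fun h => D.v0 (by simpa using h)
  have hlam0 : lam ≠ 0 := by
    intro h
    rw [h, zero_smul] at h3
    exact hxv h3
  by_cases hc : ∀ e ∈ E, ∀ u, e (x u) = x (e u)
  · obtain ⟨g, hg, h, hh, s, hs1, hs⟩ := noncomm G hna
    have memW : ∀ y, y ∈ LinearMap.ker ((x : V →ₗ[F] V) - lam • LinearMap.id) ↔ x y = lam • y := by
      intro y
      rw [LinearMap.mem_ker, LinearMap.sub_apply, LinearMap.smul_apply, LinearMap.id_apply, sub_eq_zero]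
      rfl
    have hE : ∀ e ∈ E, ∀ y ∈ LinearMap.ker ((x : V →ₗ[F] V) - lam • LinearMap.id),
        e y ∈ LinearMap.ker ((x : V →ₗ[F] V) - lam • LinearMap.id) := by
      intro e he y hy
      rw [memW] at hy ⊢
      rw [← hc e he, hy, map_smul]
    have h4 := inv_sub_eq D hs hs1 (W := LinearMap.ker ((x : V →ₗ[F] V) - lam • LinearMap.id)) (fun h => by
      have h5 := (memW v).2 h3
      rw [h, Submodule.mem_bot] at h5
      exact D.v0 h5) (hE g hg) (hE h hh)
    exact ⟨lam, fun u => (memW u).1 (by rw [h4]; trivial)⟩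
  exfalso
  push Not at hc
  obtain ⟨e1, he1, y, hy⟩ := hc
  obtain ⟨ζ, hζ⟩ := G.comm e1 he1 x hx
  have hζ1 : ζ ≠ 1 := by
    rintro rfl
    exact hy (by rw [hζ, one_smul])
  have hζ3 := cube_one D hζ
  have hζ0 : ζ ≠ 0 := by
    rintro rfl
    norm_num at hζ3
  have hζ2 : ζ ^ 2 ≠ 1 := fun h => hζ1 (eq_one_of_cube hζ3 h)
  have inv : ∀ z, x (e1 z) = ζ ^ 2 • e1 (x z) := by
    intro z
    rw [hζ z, smul_smul, ← pow_succ, hζ3, one_smul]
  have k1 : x (e1 v) = (ζ ^ 2 * lam) • e1 v := by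
    rw [inv, h3, map_smul, smul_smul]
  have k2 : x (e1 (e1 v)) = (ζ * lam) • e1 (e1 v) := by
    rw [inv, k1, map_smul, smul_smul]
    congr 1
    calc ζ ^ 2 * (ζ ^ 2 * lam) = ζ ^ 3 * (ζ * lam) := by ring
      _ = ζ * lam := by rw [hζ3, one_mul]
  -- `φ` vanishes on the other eigenvectors
  have vanish : ∀ (z : V) (κ : F), x z = κ • z → κ ≠ lam → φ z = 0 := by
    intro z κ hz hκ
    have h4 := hT z
    rw [D.T_apply, D.T_apply, map_add, map_smul, h3] at h4
    have h5 := add_left_cancel h4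
    rw [hz, map_smul, smul_smul, smul_eq_mul] at h5
    have h6 := smul_left_injective F D.v0 h5
    have h7 : (lam - κ) * φ z = 0 := by
      linear_combination h6
    rcases mul_eq_zero.1 h7 with h8 | h8
    · exact absurd (sub_eq_zero.1 h8).symm hκ
    · exact h8
  have n1 : ζ ^ 2 * lam ≠ lam := fun h => hζ2 ((mul_eq_right₀ hlam0).1 h)
  have n2 : ζ * lam ≠ lam := fun h => hζ1 ((mul_eq_right₀ hlam0).1 h)
  have n3 : ζ ^ 2 * lam ≠ ζ * lam := by
    intro h
    have h4 := mul_right_cancel₀ hlam0 h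
    rw [pow_two] at h4
    exact hζ1 ((mul_eq_left₀ hζ0).1 h4)
  have f1 := vanish _ _ k1 n1
  have f2 := vanish _ _ k2 n2
  have t1 : T (e1 v) = e1 v := by rw [D.T_apply, f1, zero_smul, add_zero]
  have t2 : T (e1 (e1 v)) = e1 (e1 v) := by rw [D.T_apply, f2, zero_smul, add_zero]
  -- the element `d`
  set d : V ≃ₗ[F] V := e1⁻¹ * (T * e1 * T) with hd
  have hdE : d ∈ E := mul_mem (inv_mem he1) (G.hT _ he1)
  have d0 : e1 (d v) = - e1 v := by
    change e1 (e1⁻¹ (T (e1 (T v)))) = _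
    rw [A_inv, D.Tv, map_neg, map_neg, t1]
  have d1 : d v = -v := by
    apply e1.injective
    rw [d0, map_neg]
  have d2 : d (e1 v) = e1 v := by
    apply e1.injective
    change e1 (e1⁻¹ (T (e1 (T (e1 v))))) = _
    rw [A_inv, t1, t2]
  obtain ⟨κ, hκ⟩ := G.comm d hdE e1 he1
  have hκ3 := cube_one D hκ
  have he1v : e1 v ≠ 0 := fun h => D.v0 (by simpa using h)
  have hκ1 : κ = -1 := by
    have h4 := hκ v
    rw [d2, d1, map_neg, smul_neg, ← neg_smul] at h4
    have h5 : (-κ - 1) • e1 v = 0 := by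
      rw [sub_smul, one_smul, ← h4, sub_self]
    have h6 := (smul_eq_zero.1 h5).resolve_right he1v
    linear_combination -h6
  have h2 : (2 : F) = 0 := by
    rw [hκ1] at hκ3
    have : (-1 : F) ^ 3 = -1 := by ring
    rw [this] at hκ3
    linear_combination -hκ3
  have f0 : φ v = 0 := by rw [D.φ0, h2, neg_zero]
  have hli : LinearIndependent F ![v, e1 v, e1 (e1 v)] := by
    refine Module.End.eigenvectors_linearIndependent' (x : V →ₗ[F] V) ![lam, ζ ^ 2 * lam, ζ * lam] ?_ _ ?_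
    · intro i j hij
      fin_cases i <;> fin_cases j
      · rfl
      · exact absurd hij n1.symm
      · exact absurd hij n2.symm
      · exact absurd hij n1
      · rfl
      · exact absurd hij n3
      · exact absurd hij n2
      · exact absurd hij n3.symm
      · rfl
    · intro i
      fin_cases i
      · exact Module.End.hasEigenvector_iff.2 ⟨Module.End.mem_eigenspace_iff.2 h3, D.v0⟩
      · exact Module.End.hasEigenvector_iff.2 ⟨Module.End.mem_eigenspace_iff.2 k1, he1v⟩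
      · exact Module.End.hasEigenvector_iff.2 ⟨Module.End.mem_eigenspace_iff.2 k2, fun h => D.v0 (by simpa using h)⟩
  have hspan := hli.span_eq_top_of_card_eq_finrank (by simp [D.dim])
  have h4 : A v ∈ Submodule.span F (Set.range ![v, e1 v, e1 (e1 v)]) := by rw [hspan]; trivial
  obtain ⟨f, hf⟩ := (Submodule.mem_span_range_iff_exists_fun F).1 h4
  have h5 := D.φ1
  rw [← hf, Fin.sum_univ_three] at h5
  change φ (f 0 • v + f 1 • e1 v + f 2 • e1 (e1 v)) = 1 at h5
  rw [map_add, map_add, map_smul, map_smul, map_smul, f0, f1, f2] at h5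
  simp at h5

/-- `T` inverts `E` modulo scalars -/
theorem inv_T {e : V ≃ₗ[F] V} (he : e ∈ E) : ∃ s : F, ∀ u, e (T (e (T u))) = s • u := by
  set e' : V ≃ₗ[F] V := T * e * T with he'
  have he'E : e' ∈ E := G.hT e he
  have r1 : ∀ u, e' (T u) = T (e u) := fun u => by
    change T (e (T (T u))) = _
    rw [D.TT]
  have r2 : ∀ u, e (T u) = T (e' u) := fun u => by
    change _ = T (T (e (T u)))
    rw [D.TT]
  obtain ⟨ξ, hξ⟩ := G.comm e he e' he'E
  have hξ3 := cube_one D hξ
  have r3 : ∀ u, e (e' (T u)) = ξ • T (e (e' u)) := by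
    intro u
    rw [hξ, r2, r1]
  have hξ1 : ξ = 1 := by
    apply eq_one_of_cube hξ3
    have h1 := r3 (T v)
    rw [D.TT, r3, map_smul, D.TT, smul_smul] at h1
    have hne : e (e' v) ≠ 0 := fun h => D.v0 (by simpa using h)
    have h2 : (ξ * ξ - 1) • e (e' v) = 0 := by
      rw [sub_smul, one_smul, ← h1, sub_self]
    rw [pow_two]
    exact sub_eq_zero.1 ((smul_eq_zero.1 h2).resolve_right hne)
  obtain ⟨s, hs⟩ := scalar_T D G hna (x := e * e') (mul_mem he he'E) (fun u => by
    change e (e' (T u)) = T (e (e' u))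
    rw [r3, hξ1, one_smul])
  exact ⟨s, hs⟩

/-- **the nonabelian case** -/
theorem nonabelian_false : False := by
  have hfd := D.fd
  set Y : V →ₗ[F] V := (T : V →ₗ[F] V) ∘ₗ (A : V →ₗ[F] V) ∘ₗ (T : V →ₗ[F] V) ∘ₗ ((A⁻¹ : V ≃ₗ[F] V) : V →ₗ[F] V) with hY
  have Yapp : ∀ u, Y u = T (A (T (A⁻¹ u))) := fun _ => rfl
  have BB : ∀ u, A (T (A⁻¹ (A (T (A⁻¹ u))))) = u := fun u => by rw [inv_A, D.TT, A_inv]
  -- the relation with `E`
  have rel : ∀ e ∈ E, ∃ κ : F, ∀ u, Y (e u) = κ • e (Y u) := by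
    intro e he
    -- `B e = s e⁻¹ B`
    obtain ⟨s, hs⟩ := inv_T D G hna (G.hA' e he)
    have hs' : ∀ u, A (T (A⁻¹ (e u))) = s • e⁻¹ (A (T (A⁻¹ u))) := by
      intro u
      have h1 := hs (T (A⁻¹ u))
      rw [D.TT] at h1
      change A⁻¹ (e (A (T (A⁻¹ (e (A (A⁻¹ u))))))) = _ at h1
      rw [A_inv] at h1
      have h2 := congrArg A h1
      rw [A_inv, map_smul] at h2
      apply e.injective
      rw [h2, map_smul, A_inv (A := e)]
    obtain ⟨s', hs1⟩ := inv_T D G hna (inv_mem he)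
    have hs1' : ∀ u, T (e⁻¹ u) = s' • e (T u) := by
      intro u
      have h1 := hs1 (T u)
      rw [D.TT] at h1
      have h2 := congrArg e h1
      rw [A_inv, map_smul] at h2
      exact h2
    refine ⟨s * s', fun u => ?_⟩
    rw [Yapp, hs', map_smul, hs1', smul_smul]
    rfl
  have hAv : A⁻¹ v = c⁻¹ • A (A v) := by
    apply A.injective
    rw [A_inv, map_smul, D.cube, smul_smul, inv_mul_cancel₀ D.c0, one_smul]
  have Yform : ∀ u, Y u = u + φ (A⁻¹ u) • (A v + v) + φ u • v := by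
    intro u
    rw [Yapp, D.T_apply (A⁻¹ u), map_add, A_inv, map_smul, D.T_apply, map_add, map_smul, D.φ1, smul_eq_mul, mul_one]
    module
  by_cases hκ : ∀ e ∈ E, ∀ u, Y (e u) = e (Y u)
  · -- `Y` commutes with `E`
    obtain ⟨g, hg, h, hh, s, hs1, hs⟩ := noncomm G hna
    have memW : ∀ y, y ∈ LinearMap.ker (Y - LinearMap.id) ↔ Y y = y := by
      intro y
      rw [LinearMap.mem_ker, LinearMap.sub_apply, LinearMap.id_apply, sub_eq_zero]
    have hE : ∀ e ∈ E, ∀ y ∈ LinearMap.ker (Y - LinearMap.id), e y ∈ LinearMap.ker (Y - LinearMap.id) := by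
      intro e he y hy
      rw [memW] at hy ⊢
      rw [hκ e he, hy]
    have h4 := inv_sub_eq D hs hs1 (W := LinearMap.ker (Y - LinearMap.id)) (fun h => by
      have h5 : v + (2 : F) • A v + (4 : F) • A (A v) ∈ LinearMap.ker (Y - LinearMap.id) := by
        rw [memW, Yform]
        have e1 : φ (A⁻¹ (v + (2 : F) • A v + (4 : F) • A (A v))) = 0 := by
          have e0 : A⁻¹ (v + (2 : F) • A v + (4 : F) • A (A v)) = c⁻¹ • A (A v) + (2 : F) • v + (4 : F) • A v := by
            rw [map_add, map_add, map_smul, map_smul, inv_A, inv_A, hAv]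
          rw [e0, map_add, map_add, map_smul, map_smul, map_smul, D.φ0, D.φ1, D.φ2]
          simp only [smul_eq_mul]
          ring
        have e2 : φ (v + (2 : F) • A v + (4 : F) • A (A v)) = 0 := by
          rw [map_add, map_add, map_smul, map_smul, D.φ0, D.φ1, D.φ2]
          simp only [smul_eq_mul]
          ring
        rw [e1, e2, zero_smul, zero_smul, add_zero, add_zero]
      rw [h, Submodule.mem_bot] at h5
      have h6 := D.coord_zero D.v0 (a := 1) (b := 2) (d := 4) (by rw [one_smul]; exact h5)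
      exact one_ne_zero h6.1) (hE g hg) (hE h hh)
    have h5 : Y (A v) = A v := (memW _).1 (by rw [h4]; trivial)
    rw [Yform, inv_A, D.φ0, D.φ1] at h5
    have h6 : (1 : F) • v + (2 : F) • A v + (0 : F) • A (A v) = 0 := by
      have h7 : A v - (A v + (-2 : F) • (A v + v) + (1 : F) • v) = 0 := by rw [h5, sub_self]
      rw [← h7]
      module
    exact one_ne_zero (D.coord_zero D.v0 h6).1
  · push Not at hκ
    obtain ⟨e, he, u, hu⟩ := hκ
    obtain ⟨κ, hκ⟩ := rel e he
    have hκ1 : κ ≠ 1 := by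
      rintro rfl
      exact hu (by rw [hκ, one_smul])
    have h1 : ((e⁻¹ : V ≃ₗ[F] V) : V →ₗ[F] V) ∘ₗ (Y ∘ₗ (e : V →ₗ[F] V)) = κ • Y := by
      apply LinearMap.ext
      intro u
      change e⁻¹ (Y (e u)) = κ • Y u
      rw [hκ, map_smul, inv_A]
    have h2 : (Y ∘ₗ (e : V →ₗ[F] V)) ∘ₗ ((e⁻¹ : V ≃ₗ[F] V) : V →ₗ[F] V) = Y := by
      apply LinearMap.ext
      intro u
      change Y (e (e⁻¹ u)) = Y u
      rw [A_inv]
    have h3 : LinearMap.trace F V Y = κ * LinearMap.trace F V Y := by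
      conv_lhs => rw [← h2]
      rw [LinearMap.trace_comp_comm', h1, map_smul, smul_eq_mul]
    have h4 : LinearMap.trace F V Y = -1 := by
      have h5 : Y = LinearMap.id + (φ ∘ₗ ((A⁻¹ : V ≃ₗ[F] V) : V →ₗ[F] V)).smulRight (A v + v) + φ.smulRight v := by
        apply LinearMap.ext
        intro u
        rw [Yform]
        rfl
      rw [h5, map_add, map_add, LinearMap.trace_smulRight, LinearMap.trace_smulRight, LinearMap.trace_id, D.dim,
        D.φ0]
      have h6 : (φ ∘ₗ ((A⁻¹ : V ≃ₗ[F] V) : V →ₗ[F] V)) (A v + v) = -2 := by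
        change φ (A⁻¹ (A v + v)) = -2
        rw [map_add, inv_A, map_add, hAv, map_smul, D.φ2, D.φ0, smul_zero, add_zero]
      rw [h6]
      norm_num
    rw [h4] at h3
    apply hκ1
    linear_combination h3

omit hna in
/-- **No nonscalar group with scalar commutators is normalised by `A` and `T`.** -/
theorem no_E : False := by
  by_cases h : ∀ e ∈ E, ∀ e' ∈ E, ∀ u, e (e' u) = e' (e u)
  · exact abelian_false D G h
  · exact nonabelian_false D G h

end

end Cfsg.Agent.H746.PslThree
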