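import Cfsg.Agent.H877.RadPSL
import Cfsg.Agent.H959.Rad3.Iface
import Cfsg.Agent.H746.PslThree.Core2

/-!
# The row `PSL_3(q)`, elements of order three (helper746, for S3854, S3832, S4336)

* `irr_false` : an irreducible `A` with `A ^ 3 = c` does not satisfy the involution test;
* `fixAt_psl3` : the row.
-/

set_option autoImplicit false
set_option linter.unusedSectionVars false

open scoped commutatorElement

namespace Cfsg.Agent.H746.PslThree

open Subgroup Cfsg Matrix Cfsg.Agent.H459.Rad Cfsg.Agent.H459.Iface Cfsg.Agent.H959.Rad3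
open Cfsg.Agent.ClassicalGeometry.AutPSL.Root Cfsg.Agent.ClassicalGeometry.AutPSL.Auto
  Cfsg.Agent.ClassicalGeometry.AutPSL.Main

section Grps

/-- a nontrivial solvable group has a nontrivial abelian normal subgroup -/
theorem exists_ab {S : Type*} [Group S] [Nontrivial S] (h : Group.IsSolvable S) :
    ∃ N : Subgroup S, N.Normal ∧ N ≠ ⊥ ∧ ∀ a ∈ N, ∀ b ∈ N, a * b = b * a := by
  classical
  have hex : ∃ n, derivedSeries S n = ⊥ := h.solvable
  obtain ⟨m, hm⟩ : ∃ m, Nat.find hex = m + 1 := by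
    refine Nat.exists_eq_succ_of_ne_zero fun h0 => ?_
    have h1 := Nat.find_spec hex
    rw [h0, derivedSeries_zero] at h1
    exact top_ne_bot h1
  refine ⟨derivedSeries S m, derivedSeries_normal S m, Nat.find_min hex (by omega), fun a ha b hb => ?_⟩
  have h1 := Nat.find_spec hex
  rw [hm, derivedSeries_succ] at h1
  have h2 : ⁅a, b⁆ ∈ ⁅derivedSeries S m, derivedSeries S m⁆ := commutator_mem_commutator ha hb
  rw [h1, mem_bot, commutatorElement_def] at h2
  calc a * b = (a * b * a⁻¹ * b⁻¹) * (b * a) := by group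
    _ = b * a := by rw [h2, one_mul]

end Grps

variable {F : Type*} [Field F]

/-- linear automorphisms as matrices -/
noncomputable def tm : ((Fin 3 → F) ≃ₗ[F] (Fin 3 → F)) ≃* GL (Fin 3) F :=
  (LinearMap.GeneralLinearGroup.generalLinearEquiv F (Fin 3 → F)).symm.trans Matrix.GeneralLinearGroup.toLin.symm

theorem tm_symm_apply (A : GL (Fin 3) F) (u : Fin 3 → F) :
    tm.symm A u = (A : Matrix (Fin 3) (Fin 3) F) *ᵥ u := rfl

theorem tm_mulVec (x : (Fin 3 → F) ≃ₗ[F] (Fin 3 → F)) (u : Fin 3 → F) :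
    ((tm x : GL (Fin 3) F) : Matrix (Fin 3) (Fin 3) F) *ᵥ u = x u := by
  rw [← tm_symm_apply, MulEquiv.symm_apply_apply]

theorem tm_val (x : (Fin 3 → F) ≃ₗ[F] (Fin 3 → F)) :
    ((tm x : GL (Fin 3) F) : Matrix (Fin 3) (Fin 3) F) = LinearMap.toMatrix' (x : (Fin 3 → F) →ₗ[F] (Fin 3 → F)) := by
  apply Matrix.toLin'.injective
  rw [Matrix.toLin'_toMatrix']
  apply LinearMap.ext
  intro u
  rw [Matrix.toLin'_apply, tm_mulVec]
  rfl

/-- the action on `PSL_3` -/
noncomputable def act : ((Fin 3 → F) ≃ₗ[F] (Fin 3 → F)) →* MulAut (Matrix.ProjectiveSpecialLinearGroup (Fin 3) F) :=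
  (Cfsg.Agent.ClassicalGeometry.AutPSL.Auto.lift.comp cj).comp tm.toMonoidHom

theorem act_eq_one {x : (Fin 3 → F) ≃ₗ[F] (Fin 3 → F)} (h : act x = 1) : ∃ s : F, ∀ u, x u = s • u := by
  have h1 : Cfsg.Agent.ClassicalGeometry.AutPSL.Auto.lift (cj (tm x) * fld (1 : F ≃+* F)) =
      Cfsg.Agent.ClassicalGeometry.AutPSL.Auto.lift (fld (ι := Fin 3) (1 : F ≃+* F)) := by
    rw [map_one fld, mul_one, map_one]
    exact h
  obtain ⟨⟨s, hs⟩, -⟩ := injective_aux h1
  refine ⟨s, fun u => ?_⟩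
  rw [← tm_mulVec, ← hs, Matrix.scalar_apply, ← Matrix.smul_one_eq_diagonal, smul_mulVec, one_mulVec]

theorem act_scalar {x : (Fin 3 → F) ≃ₗ[F] (Fin 3 → F)} {s : F} (h : ∀ u, x u = s • u) : act x = 1 := by
  have h1 : scalar (Fin 3) s = ((tm x : GL (Fin 3) F) : Matrix (Fin 3) (Fin 3) F) := by
    apply Matrix.toLin'.injective
    apply LinearMap.ext
    intro u
    rw [Matrix.toLin'_apply, Matrix.toLin'_apply, tm_mulVec, h, Matrix.scalar_apply, ← Matrix.smul_one_eq_diagonal,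
      smul_mulVec, one_mulVec]
  change Cfsg.Agent.ClassicalGeometry.AutPSL.Auto.lift (cj (tm x)) = 1
  rw [cj_eq_one_of_scalar h1, map_one]

/-- **the involution test fails** -/
theorem irr_false {A : GL (Fin 3) F} {c : F} (hA : (A : Matrix (Fin 3) (Fin 3) F) ^ 3 = c • 1)
    (hs : ∀ W : Submodule F (Fin 3 → F), (∀ w ∈ W, (A : Matrix (Fin 3) (Fin 3) F) *ᵥ w ∈ W) → W = ⊥ ∨ W = ⊤)
    (hI : Inv (Cfsg.Agent.ClassicalGeometry.AutPSL.Auto.lift (cj A))) : False := by
  set V := Fin 3 → F with hV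
  set a : V ≃ₗ[F] V := tm.symm A with ha
  have hdim : Module.finrank F V = 3 := Module.finrank_fin_fun F
  have hcube : ∀ u, a (a (a u)) = c • u := by
    intro u
    rw [ha, tm_symm_apply, tm_symm_apply, tm_symm_apply, mulVec_mulVec, mulVec_mulVec]
    have h1 : (A : Matrix (Fin 3) (Fin 3) F) * (A : Matrix (Fin 3) (Fin 3) F) * (A : Matrix (Fin 3) (Fin 3) F) = c • 1 := by
      rw [← hA, pow_succ, pow_two]
    rw [h1, smul_mulVec, one_mulVec]
  have hirr : ∀ W : Submodule F V, (∀ w ∈ W, a w ∈ W) → W = ⊥ ∨ W = ⊤ := hs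
  -- the vector
  obtain ⟨v, hv⟩ := exists_ne (0 : V)
  have hspan : Submodule.span F (Set.range ![v, a v, a (a v)]) = ⊤ := by
    have hm : ∀ i : Fin 3, (![v, a v, a (a v)] : Fin 3 → V) i ∈ Submodule.span F (Set.range ![v, a v, a (a v)]) :=
      fun i => Submodule.subset_span ⟨i, rfl⟩
    refine (hirr _ ?_).resolve_left ?_
    · intro x hx
      induction hx using Submodule.span_induction with
      | mem x hx =>
        obtain ⟨i, rfl⟩ := hx
        fin_cases i
        · exact hm 1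
        · exact hm 2
        · change a (a (a v)) ∈ _
          rw [hcube]
          exact Submodule.smul_mem _ _ (hm 0)
      | zero => rw [map_zero]; exact Submodule.zero_mem _
      | add x y _ _ hx hy => rw [map_add]; exact Submodule.add_mem _ hx hy
      | smul a x _ hx => rw [map_smul]; exact Submodule.smul_mem _ _ hx
    · intro h
      have := hm 0
      rw [h, Submodule.mem_bot] at this
      exact hv this
  have hli : LinearIndependent F ![v, a v, a (a v)] :=
    linearIndependent_of_top_le_span_of_card_eq_finrank (by rw [hspan]) (by simp [hdim])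
  let b : Module.Basis (Fin 3) F V := Module.Basis.mk hli (by rw [hspan])
  let φ : V →ₗ[F] F := b.constr F ![(-2 : F), 1, 0]
  have hb0 : b 0 = v := by simp [b]
  have hb1 : b 1 = a v := by simp [b]
  have hb2 : b 2 = a (a v) := by simp [b]
  have φ0 : φ v = -2 := by rw [← hb0]; simp [φ]
  have φ1 : φ (a v) = 1 := by rw [← hb1]; simp [φ]
  have φ2 : φ (a (a v)) = 0 := by rw [← hb2]; simp [φ]
  let t₀ : V →ₗ[F] V := LinearMap.transvection φ v
  have ht₀ : ∀ u, t₀ u = u + φ u • v := fun u => LinearMap.transvection.apply φ v u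
  have hinv : Function.Involutive t₀ := by
    intro u
    rw [ht₀ u, ht₀, map_add, map_smul, φ0, smul_eq_mul, add_assoc, ← add_smul]
    have : φ u + (φ u + φ u * -2) = 0 := by ring
    rw [this, zero_smul, add_zero]
  let t : V ≃ₗ[F] V := LinearEquiv.ofInvolutive t₀ hinv
  have D : Data a t c v φ := ⟨hdim, hcube, hirr, hv, fun u => ht₀ u, φ0, φ1, φ2⟩
  have htt : t * t = 1 := LinearEquiv.ext fun u => D.TT u
  -- the involution of `PSL_3`
  have hdet : (-((tm t : GL (Fin 3) F) : Matrix (Fin 3) (Fin 3) F)).det = 1 := by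
    rw [det_neg, tm_val, LinearMap.det_toMatrix']
    have h1 : LinearMap.det (t : V →ₗ[F] V) = -1 := by
      have h2 : LinearMap.det (LinearMap.transvection φ v) = 1 + φ v := LinearMap.transvection.det φ v
      rw [φ0] at h2
      change LinearMap.det (LinearMap.transvection φ v) = -1
      rw [h2]
      ring
    rw [h1, Fintype.card_fin]
    norm_num
  let y : Matrix.SpecialLinearGroup (Fin 3) F := ⟨-((tm t : GL (Fin 3) F) : Matrix (Fin 3) (Fin 3) F), hdet⟩
  have hyv : (y : Matrix (Fin 3) (Fin 3) F) = -((tm t : GL (Fin 3) F) : Matrix (Fin 3) (Fin 3) F) := rfl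
  have hTT : ((tm t : GL (Fin 3) F) : Matrix (Fin 3) (Fin 3) F) * ((tm t : GL (Fin 3) F) : Matrix (Fin 3) (Fin 3) F) = 1 := by
    rw [← Units.val_mul, ← map_mul, htt, map_one, Units.val_one]
  have hyy : y * y = 1 := by
    apply Subtype.ext
    rw [Matrix.SpecialLinearGroup.coe_mul, Matrix.SpecialLinearGroup.coe_one, hyv, neg_mul_neg, hTT]
  have hyi : y⁻¹ = y := inv_eq_of_mul_eq_one_left hyy
  have hconj : MulAut.conj (pr y) = act t := by
    apply MulEquiv.ext
    intro g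
    obtain ⟨g, rfl⟩ := pr_surjective g
    change _ = Cfsg.Agent.ClassicalGeometry.AutPSL.Auto.lift (cj (tm t)) (pr g)
    rw [lift_pr, MulAut.conj_apply, ← map_inv, ← map_mul, ← map_mul]
    congr 1
    apply Subtype.ext
    have h1 : (tm t)⁻¹ = tm t := by rw [← map_inv, inv_eq_of_mul_eq_one_left htt]
    rw [coe_cj, h1, hyi, Matrix.SpecialLinearGroup.coe_mul, Matrix.SpecialLinearGroup.coe_mul, hyv]
    simp only [neg_mul, mul_neg, neg_neg]
  have hsol := hI (pr y) (by rw [← map_mul, hyy, map_one])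
  rw [hconj] at hsol
  have hAa : Cfsg.Agent.ClassicalGeometry.AutPSL.Auto.lift (cj A) = act a := by
    change _ = Cfsg.Agent.ClassicalGeometry.AutPSL.Auto.lift (cj (tm (tm.symm A)))
    rw [MulEquiv.apply_symm_apply]
  rw [hAa] at hsol
  set S := closure ({act a, act t} : Set (MulAut (Matrix.ProjectiveSpecialLinearGroup (Fin 3) F))) with hS
  have haS : act a ∈ S := subset_closure (Or.inl rfl)
  have htS : act t ∈ S := subset_closure (Or.inr rfl)
  have hSr : S ≤ (act (F := F)).range := by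
    rw [hS, closure_le]
    rintro _ (rfl | rfl)
    · exact ⟨a, rfl⟩
    · exact ⟨t, rfl⟩
  have hnt : Nontrivial S := by
    refine ⟨⟨⟨act t, htS⟩, 1, fun h => ?_⟩⟩
    obtain ⟨s, hs⟩ := act_eq_one (congrArg Subtype.val h)
    have h1 := hs (a v)
    rw [D.T_apply, D.φ1] at h1
    have h2 : (1 : F) • v + (1 - s) • a v + (0 : F) • a (a v) = 0 := by
      have h3 : a v + (1 : F) • v - s • a v = 0 := by rw [h1, sub_self]
      rw [← h3]
      module
    exact one_ne_zero (D.coord_zero hv h2).1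
  obtain ⟨N, hN, hNb, hNab⟩ := exists_ab hsol
  set E : Subgroup (V ≃ₗ[F] V) := (N.map S.subtype).comap act with hE
  have hcj : ∀ g : V ≃ₗ[F] V, act g ∈ S → ∀ e ∈ E, g * e * g⁻¹ ∈ E := by
    rintro g hg e ⟨n, hn, hne⟩
    refine ⟨⟨act g, hg⟩ * n * ⟨act g, hg⟩⁻¹, hN.conj_mem n hn _, ?_⟩
    have hne' : (n : MulAut (Matrix.ProjectiveSpecialLinearGroup (Fin 3) F)) = act e := hne
    change act g * (n : MulAut (Matrix.ProjectiveSpecialLinearGroup (Fin 3) F)) * (act g)⁻¹ = act (g * e * g⁻¹)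
    rw [hne', map_mul, map_mul, map_inv]
  refine no_E D (E := E) ⟨hcj a haS, ?_, ?_, ?_, ?_⟩
  · intro e he
    have h1 := hcj a⁻¹ (by rw [map_inv]; exact inv_mem haS) e he
    rwa [inv_inv] at h1
  · intro e he
    have h1 := hcj t htS e he
    rwa [inv_eq_of_mul_eq_one_left htt] at h1
  · rintro e ⟨n, hn, hne⟩ e' ⟨n', hn', hne'⟩
    have hne1 : (n : MulAut (Matrix.ProjectiveSpecialLinearGroup (Fin 3) F)) = act e := hne
    have hne1' : (n' : MulAut (Matrix.ProjectiveSpecialLinearGroup (Fin 3) F)) = act e' := hne'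
    have h1 : act (e * e' * (e' * e)⁻¹) = 1 := by
      rw [map_mul, map_mul, map_inv, map_mul, ← hne1, ← hne1']
      have h2 := congrArg Subtype.val (hNab n hn n' hn')
      have h3 : (n : MulAut (Matrix.ProjectiveSpecialLinearGroup (Fin 3) F)) * n' = n' * n := h2
      rw [h3, mul_inv_cancel]
    obtain ⟨s, hs⟩ := act_eq_one h1
    refine ⟨s, fun u => ?_⟩
    have h2 := hs (e' (e u))
    have h3 : (e * e' * (e' * e)⁻¹) (e' (e u)) = e (e' u) := by
      have h4 : (e * e' * (e' * e)⁻¹) * (e' * e) = e * e' := inv_mul_cancel_right _ _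
      exact congrArg (fun z : V ≃ₗ[F] V => z u) h4
    rw [← h3, h2]
  · obtain ⟨n, hn, hn1⟩ := (N.bot_or_exists_ne_one).resolve_left hNb
    obtain ⟨e, he⟩ := hSr n.2
    refine ⟨e, ⟨n, hn, he.symm⟩, ?_⟩
    rintro ⟨s, hs⟩
    apply hn1
    apply Subtype.ext
    rw [← he]
    exact act_scalar hs

/-- **The row `PSL_3(q)`.** -/
theorem fixAt_psl3 {K : Type*} [Group K] [Finite K] [IsSimpleGroup K] {F : Type} [Field F] [Fintype F] {r : ℕ}
    [Fact r.Prime] [CharP F r] (_hr : r ≠ 3)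
    (e : Nonempty (K ≃* Matrix.ProjectiveSpecialLinearGroup (Fin 3) F)) : Cfsg.Agent.H959.Rad3.FixAt r K := by
  obtain ⟨e⟩ := e
  refine FixAt.congr e ?_
  intro x hx hR hI
  have hxp : x ^ 3 = 1 := by
    have h := pow_orderOf_eq_one x
    rwa [hx] at h
  have hp : Fact (Nat.Prime 3) := ⟨Nat.prime_three⟩
  obtain ⟨A, σ, rfl⟩ := Cfsg.Agent.BpLin.exists_type (n := 3) (F := F) (by omega) (by decide) hxp
  rw [← map_pow, Cfsg.Agent.BpLin.pow_type] at hxp
  have h1 : Cfsg.Agent.ClassicalGeometry.AutPSL.Auto.lift (cj (Cfsg.Agent.BpLin.NA A σ 3) * fld (σ ^ 3)) =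
      Cfsg.Agent.ClassicalGeometry.AutPSL.Auto.lift (fld (ι := Fin 3) (1 : F ≃+* F)) := by
    rw [hxp, map_one fld, map_one]
  obtain ⟨⟨c, hc⟩, hσ⟩ := injective_aux h1
  have hc' : (Cfsg.Agent.BpLin.NA A σ 3 : Matrix (Fin 3) (Fin 3) F) = c • 1 := by
    rw [← hc, Matrix.scalar_apply, Matrix.smul_one_eq_diagonal]
  by_cases h2 : σ = 1
  · subst h2
    rw [map_one fld, mul_one] at hR hx hI ⊢
    rw [Cfsg.Agent.BpLin.NA_one] at hc'
    have hc0 : c ≠ 0 := by
      rintro rfl
      rw [zero_smul] at hc'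
      have h6 : (1 : Matrix (Fin 3) (Fin 3) F) = 0 := by
        rw [← (A ^ 3).mul_inv, hc', zero_mul]
      have h7 := congrFun (congrFun h6 0) 0
      rw [Matrix.one_apply_eq] at h7
      exact one_ne_zero h7
    rw [Units.val_pow_eq_pow_val] at hc'
    by_cases hU : ∃ U : Submodule F (Fin 3 → F), U ≠ ⊥ ∧ U ≠ ⊤ ∧
        ∀ u ∈ U, (A : Matrix (Fin 3) (Fin 3) F) *ᵥ u ∈ U
    · obtain ⟨U, hU0, hU1, hU⟩ := hU
      exact Cfsg.Agent.H877.RadPSL.fixR_of_invariant hc0 hc' hU0 hU1 hU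
    · exfalso
      refine irr_false hc' ?_ hI
      intro W hW
      by_contra hcon
      push Not at hcon
      exact hU ⟨W, hcon.1, hcon.2, hW⟩
  · obtain ⟨B, hB⟩ := Cfsg.Agent.BpLin.exists_std Nat.prime_three h2 hσ hc'
    rw [hB]
    exact Cfsg.Agent.H877.RadPSL.fixR_fld (by omega) B σ

end Cfsg.Agent.H746.PslThree
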